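import Cfsg.Agent.H346.DP.Cox
import Cfsg.Agent.H514.DP.Cyc_m3
import Cfsg.Agent.OddHalf.NI.Mult
import Cfsg.Agent.FastGrp
import Cfsg.Agent.Prune
set_option linter.all false
prune_inst 0x7f00000000000000000000000000000000000000000000000000000000000000000000000000000000000000000000000000000000000000000000000000000000000000000000000000000000000000003fffffffffffffffffffffffffffbeffbdffffffff
open scoped Cfsg.Agent.FastGrp

/-!
# The action of torus elements on the root `SL₂` (S2454; helper169 for helper346)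

* `up_inj'`, `lo_inj'` : the coordinates are injective;
* `act_dc` : a torus element acting on `X_i` by the scalar `μ` acts on the image of `SL₂` as `dc μ`.
-/

set_option autoImplicit false
set_option linter.unusedSectionVars false

namespace Cfsg.Agent.H169.DP

open CoxeterSystem Cfsg.Agent.ChevalleyStructure.CoxeterGeom Cfsg.Agent.Tits.Roots Cfsg.Agent.Tits.Core
  Cfsg.Agent.Tits.RootComb Cfsg.Agent.Nodes.Comb Cfsg.Agent.Nodes.Reps Cfsg.Agent.Nodes.BNOf
  Cfsg.Agent.Nodes.RGDLib Cfsg.Agent.Nodes.Bruhat Cfsg.Agent.Nodes.OppDec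
open Cfsg.Agent.OddHalf.NI.Mult
open Cfsg.Agent.H175.DP (dc dcHom coe_dc)

variable {I W Y : Type*} [Fintype I] [DecidableEq I] [Group W] [Group Y] {M : CoxeterMatrix I}
  {cs : CoxeterSystem M W} {A : I → I → ℤ} {h : IsCartan M A} {r : ℕ} {T : Subgroup Y} {n : I → Y}
  {X : (I → ℤ) → Subgroup Y} {F : I → Type*} [∀ i, Field (F i)]
  {s : ∀ i, Matrix.SpecialLinearGroup (Fin 2) (F i) →* Y}

theorem up_eq_one [Finite W] (R : RGD cs h r T n X) (C : Coord X F s) {i : I} {a : F i} (ha : s i (up a) = 1) :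
    a = 0 := by
  by_contra h0
  have e : s i (nn (Units.mk0 a h0)) = s i (lo (-(((Units.mk0 a h0)⁻¹ : (F i)ˣ) : F i))) := by
    rw [nn_eq, map_mul, map_mul, Units.val_mk0, ha, one_mul, mul_one]
  have h1 := C.cj_nn' i (Units.mk0 a h0)
  rw [e, cj_eq_of_mem (C.mem_lo i _)] at h1
  exact X_ne_neg R i h1.symm

theorem lo_eq_one [Finite W] (R : RGD cs h r T n X) (C : Coord X F s) {i : I} {a : F i} (ha : s i (lo a) = 1) :
    a = 0 := by
  have h1 : s i (up (-a)) = 1 := by
    have e : (up (-a) : Matrix.SpecialLinearGroup (Fin 2) (F i)) = (nn 1)⁻¹ * lo a * nn 1 := by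
      rw [lo_eq_conj]; group
    rw [e, map_mul, map_mul, ha, mul_one, map_inv, inv_mul_cancel]
  exact neg_eq_zero.1 (up_eq_one R C h1)

theorem up_inj' [Finite W] (R : RGD cs h r T n X) (C : Coord X F s) {i : I} {a b : F i}
    (hab : s i (up a) = s i (up b)) : a = b := by
  have h1 : s i (up (a - b)) = 1 := by
    rw [sub_eq_add_neg, up_add, map_mul, map_up_neg, hab, mul_inv_cancel]
  exact sub_eq_zero.1 (up_eq_one R C h1)

theorem dc_up {K : Type*} [Field K] (μ : Kˣ) (a : K) : dc μ (up a) = up ((μ : K) * a) := by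
  apply Subtype.ext
  rw [coe_dc, coe_up, coe_up]
  ext i j
  fin_cases i <;> fin_cases j <;> simp

theorem dc_lo {K : Type*} [Field K] (μ : Kˣ) (a : K) : dc μ (lo a) = lo (((μ⁻¹ : Kˣ) : K) * a) := by
  apply Subtype.ext
  rw [coe_dc, coe_lo, coe_lo]
  ext i j
  fin_cases i <;> fin_cases j <;> simp

/-- **The action on the root `SL₂`.** -/
theorem act_dc [Finite W] (R : RGD cs h r T n X) (C : Coord X F s) {t : Y} (ht : t ∈ T) {i : I} {μ : (F i)ˣ}
    (hμ : ∀ a : F i, t * s i (up a) * t⁻¹ = s i (up ((μ : F i) * a))) (g : Matrix.SpecialLinearGroup (Fin 2) (F i)) :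
    t * s i g * t⁻¹ = s i (dc μ g) := by
  have hlo : ∀ b : F i, t * s i (lo b) * t⁻¹ = s i (lo (((μ⁻¹ : (F i)ˣ) : F i) * b)) := by
    intro b
    by_cases hb : b = 0
    · rw [hb, mul_zero, lo_zero, map_one, mul_one, mul_inv_cancel]
    have hmem : t * s i (lo b) * t⁻¹ ∈ X (-sr i) := by
      have h1 := R.tor _ (isRoot_sr cs h i).neg t ht
      rw [← h1]
      exact conj_mem_cj.2 (C.mem_lo i b)
    obtain ⟨b', hb'⟩ := C.exists_lo hmem
    have hb0 : b' ≠ 0 := by
      intro h0
      rw [h0, lo_zero, map_one] at hb'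
      apply hb
      apply lo_eq_one R C
      have e : s i (lo b) = t⁻¹ * (t * s i (lo b) * t⁻¹) * t := by group
      rw [e, ← hb']
      group
    set x : (F i)ˣ := Units.mk0 (-b⁻¹) (neg_ne_zero.2 (inv_ne_zero hb)) with hx
    have hxv : (x : F i) = -b⁻¹ := rfl
    have hxb : -(((x⁻¹ : (F i)ˣ) : F i)) = b := by
      rw [Units.val_inv_eq_inv_val, hxv, inv_neg, inv_inv, neg_neg]
    set y : (F i)ˣ := Units.mk0 (-b'⁻¹) (neg_ne_zero.2 (inv_ne_zero hb0)) with hy
    have hyv : (y : F i) = -b'⁻¹ := rfl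
    have hyb : -(((y⁻¹ : (F i)ˣ) : F i)) = b' := by
      rw [Units.val_inv_eq_inv_val, hyv, inv_neg, inv_inv, neg_neg]
    have e1 : t * s i (nn x) * t⁻¹ = s i (up ((μ : F i) * x)) * s i (lo b') * s i (up ((μ : F i) * x)) := by
      rw [nn_eq, hxb, map_mul, map_mul, hb', ← hμ]
      group
    have e2 : s i (lo b') = s i (up (-(y : F i))) * s i (nn y) * s i (up (-(y : F i))) := by
      rw [nn_eq, hyb, ← map_mul, ← map_mul, up_neg]
      congr 1
      group
    have e3 : t * s i (nn x) * t⁻¹ = s i (up ((μ : F i) * x - y)) * s i (nn y) * s i (up ((μ : F i) * x - y)) := by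
      rw [e1, e2, sub_eq_add_neg, up_add, map_mul]
      have hc : s i (up ((μ : F i) * x)) * s i (up (-(y : F i))) = s i (up (-(y : F i))) * s i (up ((μ : F i) * x)) := by
        rw [← map_mul, ← map_mul, ← up_add, ← up_add, add_comm]
      calc s i (up ((μ : F i) * x)) * (s i (up (-(y : F i))) * s i (nn y) * s i (up (-(y : F i)))) *
            s i (up ((μ : F i) * x)) = s i (up ((μ : F i) * x)) * s i (up (-(y : F i))) * s i (nn y) *
            (s i (up (-(y : F i))) * s i (up ((μ : F i) * x))) := by group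
        _ = _ := by rw [← hc]
    have c1 : cj (t * s i (nn x) * t⁻¹) (X (sr i)) = X (-sr i) := by
      rw [cj_mul, cj_mul, R.tor _ (isRoot_sr cs h i) t⁻¹ (inv_mem ht), C.cj_nn, R.tor _ (isRoot_sr cs h i).neg t ht]
    have c2 : cj (s i (up ((μ : F i) * x - y))) (X (-sr i)) = X (-sr i) := by
      rw [e3, cj_mul, cj_mul, cj_eq_of_mem (C.mem_up i _), C.cj_nn] at c1
      exact c1
    have h1 := up_eq_one R C (eq_one_of_norm R (C.mem_up i _) c2)
    have h2 : (y : F i) = (μ : F i) * x := (sub_eq_zero.1 h1).symm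
    rw [← hb', ← hyb, ← hxb, Units.val_inv_eq_inv_val, Units.val_inv_eq_inv_val, Units.val_inv_eq_inv_val, h2, mul_inv,
      mul_neg]
  let f1 : Matrix.SpecialLinearGroup (Fin 2) (F i) →* Y := (MulAut.conj t).toMonoidHom.comp (s i)
  let f2 : Matrix.SpecialLinearGroup (Fin 2) (F i) →* Y := (s i).comp (dcHom μ)
  have h1 : f1.eqLocus f2 = ⊤ := by
    refine mem_of_up_lo (fun a => ?_) (fun b => ?_)
    · show t * s i (up a) * t⁻¹ = s i (dc μ (up a))
      rw [hμ, dc_up]
    · show t * s i (lo b) * t⁻¹ = s i (dc μ (lo b))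
      rw [hlo, dc_lo]
  have h2 : g ∈ f1.eqLocus f2 := by rw [h1]; trivial
  exact h2

end Cfsg.Agent.H169.DP
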